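import Mathlib

set_option autoImplicit false

/-!
Orbits of Sylow subgroups on a transitive `G`-set, and fixed-point-free elements of order `p`.
-/

namespace Cfsg.Agent.Lib.PermSylow.Derange

open MulAction

variable {G Ω : Type*} [Group G] [Finite G] [MulAction G Ω] [Finite Ω]

/-- If `p ^ e` divides the degree of a transitive action, it divides every orbit length of a
Sylow `p`-subgroup. -/
theorem pow_dvd_orbit_card (htr : IsPretransitive G Ω) {p : ℕ} [hp : Fact p.Prime] (P : Sylow p G)
    {e : ℕ} (he : p ^ e ∣ Nat.card Ω) (ω : Ω) :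
    p ^ e ∣ Nat.card (orbit (P : Subgroup G) ω) := by
  classical
  set S : Subgroup (P : Subgroup G) := stabilizer (P : Subgroup G) ω with hS
  have h1 : Nat.card (orbit (P : Subgroup G) ω) * Nat.card S = Nat.card (P : Subgroup G) := by
    have := Subgroup.index_mul_card S
    rw [MulAction.index_stabilizer] at this
    simpa [Nat.card_coe_set_eq] using this
  -- the stabiliser in `G`
  have h2 : Nat.card Ω * Nat.card (stabilizer G ω) = Nat.card G := by
    have := Subgroup.index_mul_card (stabilizer G ω)
    rw [index_stabilizer_of_transitive] at this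
    exact this
  have hP := P.card_eq_multiplicity
  -- `S` embeds in the stabiliser in `G`
  have h3 : Nat.card S ∣ Nat.card (stabilizer G ω) := by
    let f : S →* stabilizer G ω :=
      { toFun := fun s => ⟨(s : (P : Subgroup G)), by
          have h0 : (s : (P : Subgroup G)) • ω = ω := s.2
          exact h0⟩
        map_one' := rfl
        map_mul' := fun _ _ => rfl }
    have hf : Function.Injective f := by
      intro a b hab
      have : ((a : (P : Subgroup G)) : G) = ((b : (P : Subgroup G)) : G) :=
        congrArg (fun x : stabilizer G ω => (x : G)) hab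
      exact Subtype.ext (Subtype.ext this)
    exact Subgroup.card_dvd_of_injective f hf
  -- `p`-parts
  have hp0 : p.Prime := hp.out
  have hGpos : 0 < Nat.card G := Nat.card_pos
  have hSgroup : IsPGroup p S := by
    have : IsPGroup p (P : Subgroup G) := P.isPGroup'
    exact this.to_subgroup S
  obtain ⟨c, hc⟩ := (IsPGroup.iff_card.mp hSgroup)
  obtain ⟨d, hd⟩ := IsPGroup.iff_card.mp (P.isPGroup')
  -- p^c * p^e divides |G|
  have h4 : p ^ c * p ^ e ∣ Nat.card G := by
    rw [← h2, mul_comm (p ^ c)]
    apply Nat.mul_dvd_mul he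
    rw [← hc]; exact h3
  have h5 : p ^ c * p ^ e ∣ p ^ d := by
    rw [← pow_add] at h4 ⊢
    have := (Nat.Prime.pow_dvd_iff_le_factorization hp0 hGpos.ne').mp h4
    have hd' : d = (Nat.card G).factorization p := by
      have h6 := hd.symm.trans hP
      exact Nat.pow_right_injective hp0.two_le h6
    rw [hd']
    exact pow_dvd_pow _ this
  -- conclude
  rw [hc, hd] at h1
  rw [← h1, mul_comm (Nat.card _) (p ^ c)] at h5
  exact Nat.dvd_of_mul_dvd_mul_left (pow_pos hp0.pos c) h5

/-- In a `p`-group acting faithfully, if every stabiliser has index `p` and there are at most `p`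
orbits, some element of order `p` fixes no point. -/
theorem exists_derangement_of_index_eq {P : Type*} [Group P] [Finite P] [MulAction P Ω]
    [FaithfulSMul P Ω] [Nonempty Ω] {p : ℕ} [hp : Fact p.Prime] (hP : IsPGroup p P)
    (hidx : ∀ ω : Ω, (stabilizer P ω).index = p)
    (hs : Nat.card (Quotient (orbitRel P Ω)) ≤ p) :
    ∃ g : P, orderOf g = p ∧ ∀ ω : Ω, g • ω ≠ ω := by
  classical
  cases nonempty_fintype P
  cases nonempty_fintype Ω
  have hp0 : p.Prime := hp.out
  -- normality of stabilisers
  have hminFac : ∀ (ω : Ω), (stabilizer P ω).index = (Nat.card P).minFac := by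
    intro ω
    have hdiv : p ∣ Nat.card P := by
      rw [← hidx ω]; exact Subgroup.index_dvd_card _
    obtain ⟨n, hn⟩ := IsPGroup.iff_card.mp hP
    have hne : n ≠ 0 := by
      rintro rfl
      rw [pow_zero] at hn
      rw [hn] at hdiv
      exact hp0.one_lt.ne' (Nat.dvd_one.mp hdiv)
    rw [hidx ω, hn, Nat.Prime.pow_minFac hp0 hne]
  have hnormal : ∀ ω : Ω, (stabilizer P ω).Normal := fun ω =>
    Subgroup.normal_of_index_eq_minFac_card (hminFac ω)
  -- stabilisers only depend on the orbit
  have hstab_orbit : ∀ (ω : Ω) (h : P), stabilizer P (h • ω) = stabilizer P ω := by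
    intro ω h
    have hn := hnormal ω
    ext g
    rw [mem_stabilizer_iff, mem_stabilizer_iff]
    constructor
    · intro hg
      have h1 : h⁻¹ * g * h ∈ stabilizer P ω := by
        rw [mem_stabilizer_iff, mul_smul, mul_smul, hg, inv_smul_smul]
      have h2 := hn.conj_mem _ h1 h
      have h3 : h * (h⁻¹ * g * h) * h⁻¹ = g := by group
      rw [h3] at h2
      exact h2
    · intro hg
      have h2 := hn.conj_mem g (mem_stabilizer_iff.mpr hg) (h⁻¹)
      have h3 : (h⁻¹ * g * h⁻¹⁻¹) • ω = ω := h2
      rw [inv_inv, mul_smul, mul_smul, inv_smul_eq_iff] at h3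
      exact h3
  -- sizes
  have hcard : ∀ ω : Ω, Nat.card (stabilizer P ω) * p = Nat.card P := by
    intro ω
    have := Subgroup.index_mul_card (stabilizer P ω)
    rw [hidx ω] at this
    rw [mul_comm]; exact this
  let O := Quotient (orbitRel P Ω)
  haveI : Fintype O := Fintype.ofFinite O
  let A : Finset P := (Finset.univ : Finset O).biUnion
    (fun o => ((stabilizer P o.out : Set P).toFinset).erase 1)
  obtain ⟨ω₀⟩ := (inferInstance : Nonempty Ω)
  set N := Nat.card (stabilizer P ω₀) with hN
  have hNpos : 0 < N := Nat.card_pos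
  have hPN : N * p = Nat.card P := hcard ω₀
  have hall : ∀ ω : Ω, Nat.card (stabilizer P ω) = N := by
    intro ω
    have h1 := hcard ω
    rw [← hPN] at h1
    exact Nat.eq_of_mul_eq_mul_right hp0.pos h1
  have hAcard : A.card + p ≤ Nat.card P := by
    have h0 : ∀ o : O, (((stabilizer P o.out : Set P).toFinset).erase 1).card = N - 1 := by
      intro o
      rw [Finset.card_erase_of_mem (by simp), Set.toFinset_card, ← Nat.card_eq_fintype_card]
      exact congrArg (· - 1) (hall o.out)
    have h1 : A.card ≤ Fintype.card O * (N - 1) := by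
      calc A.card ≤ ∑ o : O, (((stabilizer P o.out : Set P).toFinset).erase 1).card :=
            Finset.card_biUnion_le
        _ = Fintype.card O * (N - 1) := by simp [h0]
    have hsO : Fintype.card O ≤ p := by
      rw [← Nat.card_eq_fintype_card]; exact hs
    have h2 : Fintype.card O * (N - 1) ≤ p * (N - 1) := Nat.mul_le_mul_right _ hsO
    obtain ⟨k, hk⟩ : ∃ k, N = k + 1 := ⟨N - 1, by omega⟩
    rw [← hPN, hk]
    rw [hk] at h1 h2
    simp only [Nat.add_sub_cancel] at h1 h2
    nlinarith
  have hlt : A.card < ((Finset.univ : Finset P).erase 1).card := by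
    rw [Finset.card_erase_of_mem (Finset.mem_univ _), Finset.card_univ, ← Nat.card_eq_fintype_card]
    have := hp0.two_le
    omega
  obtain ⟨g, hg1, hgA⟩ := Finset.exists_mem_notMem_of_card_lt_card hlt
  have hg1' : g ≠ 1 := (Finset.mem_erase.mp hg1).1
  have hfix : ∀ ω : Ω, g • ω ≠ ω := by
    intro ω hgω
    apply hgA
    rw [Finset.mem_biUnion]
    refine ⟨Quotient.mk'' ω, Finset.mem_univ _, ?_⟩
    rw [Finset.mem_erase]
    refine ⟨hg1', ?_⟩
    rw [Set.mem_toFinset]
    have hrel : (Quotient.mk'' ω : O).out ∈ orbit P ω := by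
      have := Quotient.exact (Quotient.out_eq' (Quotient.mk'' ω : O))
      exact this
    obtain ⟨h, hh⟩ := hrel
    have : stabilizer P (Quotient.mk'' ω : O).out = stabilizer P ω := by
      rw [← hh]; exact hstab_orbit ω h
    rw [this]
    exact hgω
  refine ⟨g, ?_, hfix⟩
  have hpow : g ^ p = 1 := by
    apply eq_of_smul_eq_smul (α := Ω)
    intro ω
    rw [one_smul]
    have hn := hnormal ω
    have := Subgroup.pow_index_mem (stabilizer P ω) g
    rw [hidx ω] at this
    exact this
  exact orderOf_eq_prime hpow hg1'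

/-- If a finite group acts faithfully and transitively on a set with `p ^ k` elements, `k ≥ 1`, then
some element of order `p` fixes no point. -/
theorem exists_derangement_of_card_eq_pow [FaithfulSMul G Ω] (htr : IsPretransitive G Ω)
    {p k : ℕ} [hp : Fact p.Prime] (hk : 1 ≤ k) (hΩ : Nat.card Ω = p ^ k) :
    ∃ g : G, orderOf g = p ∧ ∀ ω : Ω, g • ω ≠ ω := by
  classical
  have hp0 : p.Prime := hp.out
  have hne : Nonempty Ω := by
    apply (Nat.card_pos_iff.mp _).1
    rw [hΩ]; exact pow_pos hp0.pos k
  obtain ⟨ω₀⟩ := hne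
  obtain ⟨P⟩ : Nonempty (Sylow p G) := inferInstance
  -- `P` is transitive
  have htrP : IsPretransitive (P : Subgroup G) Ω := by
    have hdvd := pow_dvd_orbit_card htr P (e := k) (by rw [hΩ]) ω₀
    haveI : Nonempty (orbit (P : Subgroup G) ω₀) := ⟨⟨ω₀, mem_orbit_self ω₀⟩⟩
    have hle : Nat.card Ω ≤ Nat.card (orbit (P : Subgroup G) ω₀) := by
      rw [hΩ]; exact Nat.le_of_dvd Nat.card_pos hdvd
    have htop : orbit (P : Subgroup G) ω₀ = Set.univ := by
      apply Set.eq_of_subset_of_ncard_le (Set.subset_univ _)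
      rw [Set.ncard_univ]
      rwa [Nat.card_coe_set_eq] at hle
    rw [isPretransitive_iff_base ω₀]
    intro x
    have hx : x ∈ orbit (P : Subgroup G) ω₀ := by rw [htop]; trivial
    obtain ⟨g, hg⟩ := hx
    exact ⟨g, hg⟩
  have hP : IsPGroup p (P : Subgroup G) := P.isPGroup'
  have hnontriv : Nontrivial (P : Subgroup G) := by
    by_contra hcon
    rw [not_nontrivial_iff_subsingleton] at hcon
    have h2 : 2 ≤ Nat.card Ω := by
      rw [hΩ]
      calc 2 ≤ p := hp0.two_le
        _ = p ^ 1 := (pow_one p).symm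
        _ ≤ p ^ k := Nat.pow_le_pow_right hp0.pos hk
    have : Nontrivial Ω := by
      rwa [← Finite.one_lt_card_iff_nontrivial]
    obtain ⟨ω₁, hω₁⟩ := exists_ne ω₀
    obtain ⟨g, hg⟩ := htrP.exists_smul_eq ω₀ ω₁
    rw [Subsingleton.elim g 1, one_smul] at hg
    exact hω₁ hg.symm
  have hZ := hP.center_nontrivial
  obtain ⟨n, hn, hcard⟩ := (hP.to_subgroup (Subgroup.center (P : Subgroup G))).nontrivial_iff_card.mp hZ
  have hdvd : p ∣ Nat.card (Subgroup.center (P : Subgroup G)) := by
    rw [hcard]; exact dvd_pow_self p hn.ne'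
  obtain ⟨z, hz⟩ := exists_prime_orderOf_dvd_card' p hdvd
  refine ⟨((z : (P : Subgroup G)) : G), ?_, ?_⟩
  · rw [Subgroup.orderOf_coe, Subgroup.orderOf_coe, hz]
  · intro ω hω
    have hall : ∀ ω' : Ω, ((z : (P : Subgroup G)) : G) • ω' = ω' := by
      intro ω'
      obtain ⟨h, rfl⟩ := htrP.exists_smul_eq ω ω'
      have hcomm : (z : (P : Subgroup G)) * h = h * (z : (P : Subgroup G)) := by
        exact (Subgroup.mem_center_iff.mp z.2 h).symm
      have h1 : ((z : (P : Subgroup G)) * h) • ω = (h * (z : (P : Subgroup G))) • ω := by rw [hcomm]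
      rw [mul_smul, mul_smul] at h1
      have h2 : (z : (P : Subgroup G)) • (h • ω) = ((z : (P : Subgroup G)) : G) • (h • ω) := rfl
      have h3 : (z : (P : Subgroup G)) • ω = ω := hω
      rw [h2, h3] at h1
      exact h1
    have h1 : ((z : (P : Subgroup G)) : G) = 1 := by
      apply eq_of_smul_eq_smul (α := Ω)
      intro ω'
      rw [hall, one_smul]
    have h2 : orderOf z = 1 := by
      rw [← Subgroup.orderOf_coe, ← Subgroup.orderOf_coe, h1, orderOf_one]
    rw [hz] at h2
    exact hp0.one_lt.ne' h2

end Cfsg.Agent.Lib.PermSylow.Derange
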